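import Groth.Agent.Lib.RedPts.Ga
import Groth.Agent.Lib.Tori.Basic
import Mathlib.Algebra.Polynomial.RingDivision
import Mathlib.AlgebraicGeometry.Sites.Fpqc

/-!
# Pointed morphisms from the additive group to a torus are trivial

Invertible polynomials are constants; descend from a field over which the torus is split.
-/

universe u

open CategoryTheory CategoryTheory.Limits MonoidalCategory CartesianMonoidalCategory MonObj AlgebraicGeometry

namespace Groth.Agent.H2.TorusHom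

open Lib.RedPts

/-- Split case. -/
theorem ga_ds_eq_one {K : Type u} [Field K] {M : Type} [AddCommGroup M]
    (g : Red.Ga (Spec (CommRingCat.of K)) ⟶ Red.DS (Spec (CommRingCat.of K)) M)
    (hg : (1 : 𝟙_ _ ⟶ Red.Ga (Spec (CommRingCat.of K))) ≫ g = 1) : g = 1 := by
  let G₀ := Red.Ga (Spec (CommRingCat.of K))
  let L : Over (Spec (CommRingCat.of K)) :=
    Over.mk (Spec.map (CommRingCat.ofHom (Polynomial.C : K →+* Polynomial K)))
  let e := Scheme.ΓSpecIso (CommRingCat.of (Polynomial K))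
  let c : L ⟶ G₀ := Ga.gaPt (e.inv (Polynomial.X : Polynomial K))
  let φ : Polynomial K →+* Γ(G₀.left, ⊤) :=
    Polynomial.eval₂RingHom (Points.baseHom G₀) (Red.gaFn (𝟙 G₀))
  let d : G₀ ⟶ L := Over.homMk (G₀.left.toSpecΓ ≫ Spec.map (CommRingCat.ofHom φ)) <| by
    have h : G₀.left.toSpecΓ ≫ Spec.map (CommRingCat.ofHom (Points.baseHom G₀)) = G₀.hom :=
      Over.w (Points.toSpec G₀)
    change (_ ≫ _) ≫ Spec.map (CommRingCat.ofHom (Polynomial.C : K →+* Polynomial K)) = _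
    rw [Category.assoc, ← Spec.map_comp, ← CommRingCat.ofHom_comp]
    rw [show φ.comp Polynomial.C = Points.baseHom G₀ from RingHom.ext fun x => by simp [φ]]
    exact h
  have hdc : d ≫ c = 𝟙 G₀ := Ga.gaFn_injective (by
    rw [Ga.gaFn_comp, Ga.gaFn_gaPt]
    refine (RingHom.congr_fun (Points.ringHomOf_toSpecΓ φ) Polynomial.X).trans ?_
    simp [φ])
  suffices h : c ≫ g = 1 by rw [← Category.id_comp g, ← hdc, Category.assoc, h, MonObj.comp_one]
  let o : 𝟙_ (Over (Spec (CommRingCat.of K))) ⟶ L :=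
    Over.homMk (Spec.map (CommRingCat.ofHom (Polynomial.evalRingHom (0 : K)))) <| by
      change Spec.map _ ≫ Spec.map _ = 𝟙 _
      rw [← Spec.map_comp, ← CommRingCat.ofHom_comp, ← Spec.map_id]
      congr 1
      ext x
      simp
  have hnat : ∀ p : Polynomial K, o.left.appTop (e.inv p) =
      (Scheme.ΓSpecIso (CommRingCat.of K)).inv (Polynomial.eval 0 p) := fun p =>
    (congr($(Scheme.ΓSpecIso_inv_naturality
      (CommRingCat.ofHom (Polynomial.evalRingHom (0 : K)))).hom p)).symm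
  have hoc : o ≫ c = 1 := Ga.gaFn_injective (by
    rw [Ga.gaFn_comp, Ga.gaFn_gaPt, Ga.gaFn_one, hnat, Polynomial.eval_X, map_zero])
  refine Gm.dsFn_ext fun m => ?_
  rw [Gm.dsFn_one]
  have hu : IsUnit (e.hom (Gm.dsFn (c ≫ g) m) : Polynomial K) :=
    (Gm.isUnit_dsFn (c ≫ g) m).map e.hom.hom
  obtain ⟨r, hr, hr'⟩ := Polynomial.isUnit_iff.1 hu
  have h1 : o.left.appTop (Gm.dsFn (c ≫ g) m) = 1 := by
    rw [← Gm.dsFn_comp, ← Category.assoc, hoc, hg, Gm.dsFn_one]
  rw [← e.hom_inv_id_apply (Gm.dsFn (c ≫ g) m), ← hr', hnat, Polynomial.eval_C,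
    map_eq_one_iff _ (ConcreteCategory.bijective_of_isIso
      (Scheme.ΓSpecIso (CommRingCat.of K)).inv).1] at h1
  rw [← e.hom_inv_id_apply (Gm.dsFn (c ≫ g) m), ← hr', h1, map_one]
  exact map_one _

/-- Transport of "pointed morphisms are trivial" along isomorphisms of groups. -/
theorem eq_one_of_iso {S : Scheme.{u}} {A B C D : Over S} [GrpObj A] [GrpObj B] [GrpObj C] [GrpObj D]
    (a : A ≅ B) [IsMonHom a.inv] (e : C ≅ D) [IsMonHom e.hom] [IsMonHom e.inv] (g : A ⟶ C)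
    (h0 : (1 : 𝟙_ _ ⟶ A) ≫ g = 1) (H : ∀ g' : B ⟶ D, (1 : 𝟙_ _ ⟶ B) ≫ g' = 1 → g' = 1) : g = 1 := by
  have h1 : a.inv ≫ g ≫ e.hom = 1 := H _ (by
    rw [← Category.assoc, MonObj.one_comp a.inv, ← Category.assoc, h0, MonObj.one_comp e.hom])
  have : g = a.hom ≫ (a.inv ≫ g ≫ e.hom) ≫ e.inv := by simp
  rw [this, h1, MonObj.one_comp, MonObj.comp_one]

/-- Over a field. -/
theorem ga_torus_eq_one {k : Type u} [Field k] (T : Over (Spec (CommRingCat.of k))) [GrpObj T]
    (hT : Red.IsTorus T) (g : Red.Ga (Spec (CommRingCat.of k)) ⟶ T)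
    (hg : (1 : 𝟙_ _ ⟶ Red.Ga (Spec (CommRingCat.of k))) ≫ g = 1) : g = 1 := by
  obtain ⟨S', f, -, hsurj, -, hloc⟩ := hT
  obtain ⟨s', -⟩ := f.surjective (IsLocalRing.closedPoint k)
  obtain ⟨U, hU, r, hr⟩ := hloc s'
  let K := (U : Scheme.{u}).residueField ⟨s', hU⟩
  let i : Spec (CommRingCat.of K) ⟶ (U : Scheme.{u}) := (U : Scheme.{u}).fromSpecResidueField ⟨s', hU⟩
  let h : Spec (CommRingCat.of K) ⟶ Spec (CommRingCat.of k) := i ≫ U.ι ≫ f
  obtain ⟨ε⟩ := Lib.Tori.Basic.isSplit_bc hr i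
  let E := Lib.Tori.BaseChange.overIso ((Lib.Tori.BaseChange.bcComp i (U.ι ≫ f) T) ≪≫ ε)
  let G := Lib.Tori.BaseChange.overIso (Lib.Tori.BaseChange.bcComp h
    (Limits.IsTerminal.from specULiftZIsTerminal (Spec (CommRingCat.of k))) Red.GaZ).symm
  let G' : Red.bc h (Red.Ga (Spec (CommRingCat.of k))) ≅ Red.Ga (Spec (CommRingCat.of K)) :=
    Lib.Tori.BaseChange.overIso ((Lib.Tori.BaseChange.bcComp h
      (Limits.IsTerminal.from specULiftZIsTerminal (Spec (CommRingCat.of k))) Red.GaZ).symm ≪≫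
      Lib.Tori.BaseChange.bcCongr (Limits.IsTerminal.hom_ext specULiftZIsTerminal _ _) Red.GaZ)
  haveI : IsMonHom G'.hom := inferInstance
  haveI : IsMonHom G'.inv := inferInstance
  haveI : IsMonHom E.hom := inferInstance
  haveI : IsMonHom E.inv := inferInstance
  have h0 : (1 : 𝟙_ _ ⟶ Red.bc h (Red.Ga (Spec (CommRingCat.of k)))) ≫ (Over.pullback h).map g = 1 := by
    apply BC.down_injective
    rw [BC.down_map, BC.down_one, BC.down_one]
    calc (1 : _ ⟶ Red.Ga (Spec (CommRingCat.of k))) ≫ g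
        = toUnit _ ≫ ((1 : 𝟙_ _ ⟶ Red.Ga (Spec (CommRingCat.of k))) ≫ g) := by
          rw [← Category.assoc, MonObj.comp_one]
      _ = 1 := by rw [hg, MonObj.comp_one]
  have h2 : (Over.pullback h).map g = 1 := eq_one_of_iso G' E _ h0 fun g' hg' => ga_ds_eq_one g' hg'
  have h3 : BC.down h (𝟙 _) ≫ g = 1 := by
    rw [← BC.down_map, Category.id_comp, h2, BC.down_one]
  have h4 := congr(($h3).left)
  rw [Over.comp_left, BC.down_left, Over.id_left, Category.id_comp] at h4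
  haveI : Surjective h := ⟨fun _ => ⟨IsLocalRing.closedPoint K, Subsingleton.elim _ _⟩⟩
  obtain ⟨χ, hχ⟩ := Spec.map_surjective h
  haveI : Flat h := by
    rw [← hχ, HasRingHomProperty.Spec_iff (P := @Flat)]
    let := χ.hom.toAlgebra
    exact RingHom.flat_algebraMap_iff.2 inferInstance
  haveI : QuasiCompact h := inferInstance
  apply Over.OverMorphism.ext
  haveI : EffectiveEpi (pullback.fst (Red.Ga (Spec (CommRingCat.of k))).hom h) := inferInstance
  refine (cancel_epi (pullback.fst (Red.Ga (Spec (CommRingCat.of k))).hom h)).1 (h4.trans ?_)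
  rw [← BC.down_one (f := h) (X := Red.bc h (Red.Ga (Spec (CommRingCat.of k)))) (Y := T)]
  have h5 : BC.down h (1 : Red.bc h (Red.Ga (Spec (CommRingCat.of k))) ⟶ Red.bc h T) =
      BC.down h (𝟙 _) ≫ (1 : Red.Ga (Spec (CommRingCat.of k)) ⟶ T) := by
    rw [BC.down_one, MonObj.comp_one]
  have h6 := congr(($h5).left)
  rwa [Over.comp_left, BC.down_left (g := 𝟙 _), Over.id_left, Category.id_comp] at h6

end Groth.Agent.H2.TorusHom
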