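import Groth.Agent.H2.TorusHom.Point
import Groth.Agent.H2.Rigid.MulEtale
import Groth.Agent.Lib.FEt.Basic
import Groth.Agent.Lib.Tori.Basic
import Mathlib.AlgebraicGeometry.Morphisms.ClosedImmersion

/-!
# Homomorphisms from tori to smooth proper commutative groups are trivial
-/

universe u

open CategoryTheory CategoryTheory.Limits MonoidalCategory CartesianMonoidalCategory MonObj AlgebraicGeometry

namespace Groth.Agent.H2.TorusHom

open Lib.RedPts Gm

variable {S : Scheme.{u}}

/-- Points killed by an integer invertible on the base are killed. -/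
theorem comp_eq_one_of_pow {r : ℕ} (A : Over S) [GrpObj A] [IsCommMonObj A] [Smooth A.hom]
    [IsProper A.hom] (f : Red.DS S (Fin r → ℤ) ⟶ A) [IsMonHom f] (n : ℕ)
    (hn : IsUnit (n : Γ(S, ⊤))) {W : Over S} (x : W ⟶ Red.DS S (Fin r → ℤ)) (hx : x ^ n = 1) :
    x ≫ f = 1 := by
  let q : A ⟶ A := 𝟙 A ^ n
  haveI : Etale q.left := Rigid.etale_pow A n hn
  let P := pullback q.left η[A].left
  let π : P ⟶ S := pullback.snd q.left η[A].left
  haveI : Etale π := inferInstanceAs (Etale (pullback.snd q.left η[A].left))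
  haveI : FormallyUnramified π := inferInstance
  have hq : ∀ y : W ⟶ A, y ^ n = 1 → y.left ≫ q.left = W.hom ≫ η[A].left := fun y hy => by
    have e : y ≫ q = y ^ n := by rw [MonObj.comp_pow, Category.comp_id]
    rw [← Over.comp_left, e, hy, Hom.one_def, Over.comp_left]
    rfl
  have hxf : (x ≫ f) ^ n = 1 :=
    (MonObj.pow_comp x n f).symm.trans ((congrArg (· ≫ f) hx).trans (MonObj.one_comp f))
  let φ : W.left ⟶ P := pullback.lift (x ≫ f).left W.hom (hq _ hxf)
  let ψ : W.left ⟶ P := pullback.lift (1 : W ⟶ A).left W.hom (hq _ (one_pow n))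
  have hh : φ ≫ π = ψ ≫ π := by
    rw [show φ ≫ π = W.hom from pullback.lift_snd _ _ _,
      show ψ ≫ π = W.hom from pullback.lift_snd _ _ _]
  have huniv : Lib.FEt.Basic.eqSet φ ψ = Set.univ := Set.eq_univ_of_forall fun w => by
    let K := W.left.residueField w
    let p : Spec (CommRingCat.of K) ⟶ S := W.left.fromSpecResidueField w ≫ W.hom
    let a : test S K p K ⟶ W := Over.homMk (W.left.fromSpecResidueField w) (by
      change _ = Spec.map (CommRingCat.ofHom (algebraMap K K)) ≫ p
      rw [Algebra.algebraMap_self, show CommRingCat.ofHom (RingHom.id K) = 𝟙 _ from rfl,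
        Spec.map_id, Category.id_comp])
    have ha : a ≫ x ≫ f = a ≫ (1 : W ⟶ A) := by
      rw [← Category.assoc, point_comp_eq_one f p (a ≫ x), MonObj.comp_one]
    change W.left.fromSpecResidueField w ≫ φ = W.left.fromSpecResidueField w ≫ ψ
    apply pullback.hom_ext
    · rw [Category.assoc, Category.assoc, pullback.lift_fst, pullback.lift_fst]
      exact congr(($ha).left)
    · rw [Category.assoc, Category.assoc, pullback.lift_snd, pullback.lift_snd]
  have e := Lib.FEt.Basic.eq_of_eqSet_eq_univ π φ ψ hh huniv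
  apply Over.OverMorphism.ext
  have := congr($e ≫ pullback.fst q.left η[A].left)
  rwa [pullback.lift_fst, pullback.lift_fst] at this

/-- The reduction of exponents modulo `N`. -/
def redHom (r N : ℕ) : (Fin r → ℤ) →+ (Fin r → ZMod N) :=
  (Int.castAddHom (ZMod N)).compLeft (Fin r)

/-- A Laurent polynomial dying in all `N^k`-torsion subgroups is zero. -/
theorem eq_zero_of_reductions {R : Type u} [CommRing R] {r N : ℕ} (hN : 2 ≤ N)
    (a : MonoidAlgebra R (Multiplicative (Fin r → ℤ)))
    (h : ∀ k : ℕ, MonoidAlgebra.mapDomainAlgHom R R (redHom r (N ^ k)).toMultiplicative a = 0) :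
    a = 0 := by
  classical
  let B : ℕ := a.coeff.support.sup fun m => Finset.univ.sup fun i => (m.toAdd i).natAbs
  have hB : ∀ m ∈ a.coeff.support, ∀ i, (m.toAdd i).natAbs ≤ B := fun m hm i =>
    (Finset.le_sup (f := fun i => (m.toAdd i).natAbs) (Finset.mem_univ i)).trans
      (Finset.le_sup (f := fun m => Finset.univ.sup fun i => (Multiplicative.toAdd m i).natAbs) hm)
  have hlt : 2 * B < N ^ (2 * B + 1) :=
    calc 2 * B < 2 ^ (2 * B + 1) := (Nat.lt_succ_self _).trans (Nat.lt_two_pow_self)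
      _ ≤ N ^ (2 * B + 1) := Nat.pow_le_pow_left hN _
  have hinj : Set.InjOn (redHom r (N ^ (2 * B + 1))).toMultiplicative
      (a.coeff.support : Set (Multiplicative (Fin r → ℤ))) := by
    intro m hm m' hm' e
    refine Multiplicative.toAdd.injective (funext fun i => ?_)
    have e' : ((m.toAdd i : ℤ) : ZMod (N ^ (2 * B + 1))) = (m'.toAdd i : ℤ) :=
      congrFun (congrArg Multiplicative.toAdd e) i
    rw [ZMod.intCast_eq_intCast_iff_dvd_sub] at e'
    have h1 := hB m hm i
    have h2 := hB m' hm' i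
    have h0 := Int.eq_zero_of_dvd_of_natAbs_lt_natAbs e' (by
      simp only [Int.natAbs_natCast]
      omega)
    omega
  have h' := congrArg MonoidAlgebra.coeff (h (2 * B + 1))
  simp only [MonoidAlgebra.mapDomainAlgHom_apply, MonoidAlgebra.coeff_mapDomain,
    MonoidAlgebra.coeff_zero] at h'
  ext m
  by_contra hm
  have hmem : m ∈ a.coeff.support := Finsupp.mem_support_iff.2 hm
  have := congrArg (fun g => g ((redHom r (N ^ (2 * B + 1))).toMultiplicative m)) h'
  simp only [Finsupp.coe_zero, Pi.zero_apply] at this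
  rw [Finsupp.mapDomain_apply' _ _ subset_rfl hinj hmem] at this
  exact hm this

/-- The split case over an affine base. -/
theorem ds_hom_eq_one {R : Type u} [CommRing R] {r N : ℕ} (hN : 2 ≤ N) (hNu : IsUnit (N : R))
    (A : Over (Spec (CommRingCat.of R))) [GrpObj A] [IsCommMonObj A] [Smooth A.hom] [IsProper A.hom]
    (f : Red.DS (Spec (CommRingCat.of R)) (Fin r → ℤ) ⟶ A) [IsMonHom f] : f = 1 := by
  let S := Spec (CommRingCat.of R)
  let T := Red.DS S (Fin r → ℤ)
  let D := Red.diag R (Fin r → ℤ)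
  let c : D ⟶ T := dsPt
    { toFun := fun m => Affine.diagFn (𝟙 D) m.toAdd
      map_one' := Affine.diagFn_zero _
      map_mul' := fun m m' => Affine.diagFn_add _ _ _ }
  let d : T ⟶ D := Affine.diagPt
    { toFun := fun m => dsFn (𝟙 T) m.toAdd
      map_one' := dsFn_zero _
      map_mul' := fun m m' => dsFn_add _ _ _ }
  have hdc : d ≫ c = 𝟙 T := dsFn_ext fun m => by
    rw [dsFn_comp, dsFn_dsPt]
    change d.left.appTop (Affine.diagFn (𝟙 D) m) = _
    rw [← Affine.diagFn_comp, Category.comp_id, Affine.diagFn_diagPt]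
    rfl
  suffices h : c ≫ f = 1 by
    rw [← Category.id_comp f, ← hdc, Category.assoc, h, MonObj.comp_one]
  have hh : (c ≫ f).left ≫ A.hom = (1 : D ⟶ A).left ≫ A.hom := by simp
  let e := Lib.FEt.Basic.eqι A.hom (c ≫ f).left (1 : D ⟶ A).left hh
  have hce : IsClosedImmersion e := Lib.FEt.Basic.isClosedImmersion_eqι _ _ _ hh
  obtain ⟨I, ε, hI⟩ := (IsClosedImmersion.Spec_iff
    (R := CommRingCat.of (MonoidAlgebra R (Multiplicative (Fin r → ℤ)))) (f := e)).1 hce
  have hI0 : I = ⊥ := by
    refine eq_bot_iff.2 fun a ha => (Submodule.mem_bot _).2 (eq_zero_of_reductions hN a fun k => ?_)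
    let q := redHom r (N ^ k)
    let x : Red.diag R (Fin r → ZMod (N ^ k)) ⟶ T := Red.diagMap R q ≫ c
    have hx : x ^ (N ^ k) = 1 := dsFn_ext fun m => by
      rw [dsFn_pow, ← dsFn_nsmul, dsFn_comp, dsFn_dsPt, dsFn_one]
      change (Red.diagMap R q).left.appTop (Affine.diagFn (𝟙 D) (N ^ k • m)) = 1
      rw [← Affine.diagFn_comp, Category.comp_id,
        ← Category.id_comp (Red.diagMap R q), Affine.diagFn_diagMap,
        show q (N ^ k • m) = 0 from funext fun i => by
          simp [q, redHom]; rw [← Nat.cast_pow, ZMod.natCast_self, zero_mul],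
        Affine.diagFn_zero]
    have hunit : IsUnit ((N ^ k : ℕ) : Γ(S, ⊤)) := by
      have := (hNu.pow k).map (Scheme.ΓSpecIso (CommRingCat.of R)).inv.hom
      rwa [← Nat.cast_pow, map_natCast] at this
    have hxf : x ≫ f = 1 := comp_eq_one_of_pow A f _ hunit x hx
    obtain ⟨t, ht⟩ := Lib.FEt.Basic.exists_lift_eqι A.hom (c ≫ f).left (1 : D ⟶ A).left hh
      (Red.diagMap R q).left (by
        rw [← Over.comp_left, ← Over.comp_left, ← Category.assoc, hxf, MonObj.comp_one])
    obtain ⟨ψ, hψ⟩ := Spec.map_surjective (t ≫ ε.hom)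
    have ht2 : Spec.map ψ ≫ Spec.map (CommRingCat.ofHom (Ideal.Quotient.mk I)) =
        Spec.map (CommRingCat.ofHom
          (MonoidAlgebra.mapDomainAlgHom R R (redHom r (N ^ k)).toMultiplicative).toRingHom) := by
      rw [hψ]
      exact (Category.assoc _ _ _).trans ((congrArg (t ≫ ·) hI.symm).trans ht)
    rw [← Spec.map_comp] at ht2
    have hker := congr($(Spec.map_injective ht2).hom a)
    rw [CommRingCat.comp_apply] at hker
    refine hker.symm.trans ?_
    rw [show (CommRingCat.ofHom (Ideal.Quotient.mk I)).hom a = 0 from Ideal.Quotient.eq_zero_iff_mem.2 ha,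
      map_zero]
  have hiso : IsIso (Spec.map (CommRingCat.ofHom (Ideal.Quotient.mk I))) := by
    subst hI0
    haveI : IsIso (CommRingCat.ofHom (Ideal.Quotient.mk
        (⊥ : Ideal ↑(CommRingCat.of (MonoidAlgebra R (Multiplicative (Fin r → ℤ))))))) :=
      (ConcreteCategory.isIso_iff_bijective _).2
        ⟨(RingHom.injective_iff_ker_eq_bot _).2 Ideal.mk_ker, Ideal.Quotient.mk_surjective⟩
    exact inferInstance
  haveI : IsIso e := hI ▸ IsIso.comp_isIso' inferInstance hiso
  exact Over.OverMorphism.ext ((cancel_epi e).1 (Lib.FEt.Basic.eqι_comp _ _ _ hh))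

/-- A homomorphism from a torus to a smooth proper commutative group is trivial. -/
theorem torus_hom_eq_one (T A : Over S) [GrpObj T] (hT : Red.IsTorus T) [GrpObj A] [IsCommMonObj A]
    [Smooth A.hom] [IsProper A.hom] (f : T ⟶ A) [IsMonHom f] : f = 1 := by
  obtain ⟨S', g, hfl, hsurj, -, hloc⟩ := hT
  have hh : f.left ≫ A.hom = (1 : T ⟶ A).left ≫ A.hom := by simp
  let e := Lib.FEt.Basic.eqι A.hom f.left (1 : T ⟶ A).left hh
  have key : ∀ z : T.left, ∃ (P : Scheme.{u}) (π : P ⟶ T.left) (w : P),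
      Flat π ∧ π w = z ∧ π ≫ f.left = π ≫ (1 : T ⟶ A).left := by
    intro z
    obtain ⟨s', hs'⟩ := g.surjective (T.hom z)
    obtain ⟨U, hsU, r, hr⟩ := hloc s'
    obtain ⟨_, ⟨V, hV, rfl⟩, hsV, hVU⟩ :=
      S'.isBasis_affineOpens.exists_subset_of_mem_open hsU U.isOpen
    -- an integer at least two invertible near `s'`
    obtain ⟨N, hN2, hNs⟩ : ∃ N : ℕ, 2 ≤ N ∧ s' ∈ S'.basicOpen (N : Γ(S', V)) := by
      by_contra hc
      push_neg at hc
      have h2 := hc 2 le_rfl
      have h3 := hc 3 (by norm_num)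
      have h1 : s' ∈ S'.basicOpen (3 : Γ(S', V)) ⊔ S'.basicOpen (-2 : Γ(S', V)) := by
        refine S'.basicOpen_add_le _ _ ?_
        rw [show (3 : Γ(S', V)) + -2 = 1 by ring, S'.basicOpen_of_isUnit isUnit_one]
        exact hsV
      rcases h1 with h | h
      · exact h3 (by exact_mod_cast h)
      · refine h2 ?_
        rw [show (-2 : Γ(S', V)) = (-1) * ((2 : ℕ) : Γ(S', V)) by push_cast; ring,
          S'.basicOpen_mul] at h
        exact h.2
    let V' := S'.basicOpen (N : Γ(S', V))
    have hV' : IsAffineOpen V' := hV.basicOpen _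
    have hV'U : V' ≤ U := (S'.basicOpen_le _).trans hVU
    have hNu : IsUnit (N : Γ(S', V')) := by
      have := RingedSpace.isUnit_res_basicOpen S'.toRingedSpace (U := V) (N : Γ(S', V))
      rwa [map_natCast] at this
    let R := Γ(S', V')
    let i : Spec (CommRingCat.of R) ⟶ (U : Scheme.{u}) := hV'.isoSpec.inv ≫ S'.homOfLE hV'U
    let h : Spec (CommRingCat.of R) ⟶ S := i ≫ U.ι ≫ g
    obtain ⟨ε⟩ := Lib.Tori.Basic.isSplit_bc hr i
    let E := Lib.Tori.BaseChange.overIso ((Lib.Tori.BaseChange.bcComp i (U.ι ≫ g) T) ≪≫ ε)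
    haveI : IsMonHom ((Over.pullback h).map f) := inferInstance
    haveI : Smooth (Red.bc h A).hom := inferInstanceAs (Smooth (pullback.snd A.hom h))
    haveI : IsProper (Red.bc h A).hom := inferInstanceAs (IsProper (pullback.snd A.hom h))
    haveI : IsCommMonObj (Red.bc h A) := Functor.isCommMonObj_obj
    haveI : IsMonHom E.inv := inferInstance
    have h1 : E.inv ≫ (Over.pullback h).map f = 1 :=
      ds_hom_eq_one hN2 hNu _ (E.inv ≫ (Over.pullback h).map f)
    have h2 : 𝟙 (Red.bc h T) ≫ (Over.pullback h).map f = 1 := by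
      rw [← E.hom_inv_id, Category.assoc, h1, MonObj.comp_one]
    have h3 : Lib.RedPts.BC.down h (𝟙 (Red.bc h T)) ≫ f = 1 := by
      rw [← Lib.RedPts.BC.down_map, h2, Lib.RedPts.BC.down_one]
    have h4 : pullback.fst T.hom h ≫ f.left = pullback.fst T.hom h ≫ (1 : T ⟶ A).left := by
      have h5 : Lib.RedPts.BC.down h (𝟙 (Red.bc h T)) ≫ f =
          Lib.RedPts.BC.down h (𝟙 (Red.bc h T)) ≫ (1 : T ⟶ A) := by rw [h3, MonObj.comp_one]
      have h6 := congr(($h5).left)
      rw [Over.comp_left, Over.comp_left, Lib.RedPts.BC.down_left, Over.id_left, Category.id_comp] at h6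
      exact h6
    haveI : Flat h := inferInstanceAs (Flat (i ≫ U.ι ≫ g))
    refine ⟨_, pullback.fst T.hom h, ?_⟩
    obtain ⟨w, hw, -⟩ := Scheme.Pullback.exists_preimage_pullback z
      (hV'.isoSpec.hom ⟨s', hNs⟩) (f := T.hom) (g := h) (by
        rw [← hs']
        change _ = ((hV'.isoSpec.hom ≫ h) ⟨s', hNs⟩)
        simp only [h, i, Category.assoc, Iso.hom_inv_id_assoc, Scheme.homOfLE_ι_assoc]
        rfl)
    exact ⟨w, inferInstanceAs (Flat (pullback.fst T.hom h)), hw, h4⟩
  haveI : IsIso e := by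
    haveI : ∀ q, IsIso (e.stalkMap q) := by
      intro q
      obtain ⟨P, π, w, hπ, hw, heq⟩ := key (e q)
      obtain ⟨π', hπ'⟩ := Lib.FEt.Basic.exists_lift_eqι A.hom f.left (1 : T ⟶ A).left hh π heq
      have hq : π' w = q := e.isClosedEmbedding.injective (by rw [← hw, ← hπ']; rfl)
      subst hq
      refine (ConcreteCategory.isIso_iff_bijective _).2 ⟨?_, e.stalkMap_surjective _⟩
      subst hπ'
      have := Rigid.stalkMap_injective_of_flat (π' ≫ e) w
      rw [Scheme.Hom.stalkMap_comp] at this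
      exact fun a b hab => this (congrArg (π'.stalkMap w).hom hab)
    haveI : IsOpenImmersion e := by
      refine IsOpenImmersion.of_isIso_stalkMap e ⟨e.isClosedEmbedding.toIsEmbedding, ?_⟩
      rw [show Set.range e = Set.univ from Set.eq_univ_of_forall fun z => ?_]
      · exact isOpen_univ
      obtain ⟨P, π, w, hπ, hw, heq⟩ := key z
      obtain ⟨π', hπ'⟩ := Lib.FEt.Basic.exists_lift_eqι A.hom f.left (1 : T ⟶ A).left hh π heq
      exact ⟨π' w, by rw [← hw, ← hπ']; rfl⟩
    haveI : Surjective e := ⟨fun z => by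
      obtain ⟨P, π, w, hπ, hw, heq⟩ := key z
      obtain ⟨π', hπ'⟩ := Lib.FEt.Basic.exists_lift_eqι A.hom f.left (1 : T ⟶ A).left hh π heq
      exact ⟨π' w, by rw [← hw, ← hπ']; rfl⟩⟩
    exact (isIso_iff_isOpenImmersion_and_surjective e).2 ⟨inferInstance, inferInstance⟩
  exact Over.OverMorphism.ext ((cancel_epi e).1 (Lib.FEt.Basic.eqι_comp _ _ _ hh))

end Groth.Agent.H2.TorusHom
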