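import Groth.Agent.Lib.RedPts.Gm
import Mathlib.AlgebraicGeometry.ValuativeCriterion
import Mathlib.AlgebraicGeometry.Morphisms.Separated
import Mathlib.RingTheory.PowerSeries.Inverse
import Mathlib.RingTheory.DiscreteValuationRing.Basic

/-!
# A homomorphism from a split torus to a proper group kills all field-valued points

Let `a` be a unit of the field `K` and `t` the point with coordinate `X` of a one-parameter subgroup
over `K((X))`. Its image extends to `K[[X]]`; the substitution `X ↦ aX` fixes the closed point and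
multiplies the generic point by the point of coordinate `a`, so that point maps to the unit.
-/

universe u

open CategoryTheory CategoryTheory.Limits MonoidalCategory CartesianMonoidalCategory MonObj AlgebraicGeometry

namespace Groth.Agent.H2.TorusHom

open Lib.RedPts Gm

variable {S : Scheme.{u}} {M : Type} [AddCommGroup M]

/-- The point `m ↦ a ^ φ m`. -/
noncomputable def axPt (φ : M →+ ℤ) {V : Over S} (a : Γ(V.left, ⊤)ˣ) : V ⟶ Red.DS S M :=
  dsPt ((Units.coeHom _).comp ((zpowersHom _ a).comp φ.toMultiplicative))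

@[simp] theorem dsFn_axPt (φ : M →+ ℤ) {V : Over S} (a : Γ(V.left, ⊤)ˣ) (m : M) :
    dsFn (axPt φ a) m = ((a ^ φ m : Γ(V.left, ⊤)ˣ) : Γ(V.left, ⊤)) := by
  rw [axPt, dsFn_dsPt]
  rfl

theorem axPt_mul (φ : M →+ ℤ) {V : Over S} (a b : Γ(V.left, ⊤)ˣ) :
    axPt φ (a * b) = axPt φ a * axPt φ b :=
  dsFn_ext fun m => by simp [dsFn_mul, mul_zpow]

theorem comp_axPt (φ : M →+ ℤ) {V V' : Over S} (h : V' ⟶ V) (a : Γ(V.left, ⊤)ˣ) :
    h ≫ axPt φ a = axPt φ (Units.map (h.left.appTop.hom : Γ(V.left, ⊤) →* Γ(V'.left, ⊤)) a) :=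
  dsFn_ext fun m => by
    rw [dsFn_comp, dsFn_axPt, dsFn_axPt, ← map_zpow]
    rfl

section

variable (K : Type u) [Field K]

/-- The unit of the functions on `Spec B`. -/
noncomputable def toΓ {B : Type u} [CommRing B] (b : Bˣ) : Γ(Spec (CommRingCat.of B), ⊤)ˣ :=
  Units.map ((Scheme.ΓSpecIso (CommRingCat.of B)).inv.hom : B →* _) b

theorem map_toΓ {B C : Type u} [CommRing B] [CommRing C] (χ : B →+* C) (b : Bˣ) :
    Units.map ((Spec.map (CommRingCat.ofHom χ)).appTop.hom : _ →* _) (toΓ b) =
      toΓ (Units.map (χ : B →* C) b) := by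
  ext
  exact (congr($(Scheme.ΓSpecIso_inv_naturality (CommRingCat.ofHom χ)).hom (b : B))).symm

variable (S)

/-- `Spec B` over `S` for a `K`-algebra `B`. -/
noncomputable abbrev test (p : Spec (CommRingCat.of K) ⟶ S) (B : Type u) [CommRing B]
    [Algebra K B] : Over S :=
  Over.mk (Spec.map (CommRingCat.ofHom (algebraMap K B)) ≫ p)

variable {S K}

/-- The morphism of test objects given by a `K`-algebra map. -/
noncomputable def testMap (p : Spec (CommRingCat.of K) ⟶ S) {B C : Type u} [CommRing B]
    [CommRing C] [Algebra K B] [Algebra K C] (χ : B →ₐ[K] C) : test S K p C ⟶ test S K p B :=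
  Over.homMk (Spec.map (CommRingCat.ofHom χ.toRingHom)) <| by
    change _ ≫ Spec.map (CommRingCat.ofHom (algebraMap K B)) ≫ p =
      Spec.map (CommRingCat.ofHom (algebraMap K C)) ≫ p
    rw [← Spec.map_comp_assoc, ← CommRingCat.ofHom_comp]
    exact congrArg (fun z => Spec.map (CommRingCat.ofHom z) ≫ p) χ.comp_algebraMap

theorem testMap_comp (p : Spec (CommRingCat.of K) ⟶ S) {B C D : Type u} [CommRing B]
    [CommRing C] [CommRing D] [Algebra K B] [Algebra K C] [Algebra K D] (χ : B →ₐ[K] C)
    (ψ : C →ₐ[K] D) : testMap p ψ ≫ testMap p χ = testMap p (ψ.comp χ) :=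
  Over.OverMorphism.ext (Spec.map_comp _ _).symm

/-- The substitution `X ↦ aX`. -/
noncomputable def rescaleHom (a : Kˣ) : PowerSeries K →ₐ[K] PowerSeries K :=
  { __ := PowerSeries.rescale (a : K)
    commutes' := fun c => by
      ext n
      rcases n with _ | n <;>
        simp [PowerSeries.coeff_rescale, PowerSeries.algebraMap_eq, PowerSeries.coeff_C] }

theorem rescaleHom_injective (a : Kˣ) : Function.Injective (rescaleHom (K := K) a) := fun g h e => by
  ext n
  have := congrArg (PowerSeries.coeff n) e
  simpa [rescaleHom, PowerSeries.coeff_rescale] using this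

theorem rescaleHom_X (a : Kˣ) :
    rescaleHom a PowerSeries.X = algebraMap K (PowerSeries K) (a : K) * PowerSeries.X := by
  ext n
  simp [rescaleHom, PowerSeries.coeff_rescale, PowerSeries.algebraMap_eq, PowerSeries.coeff_X]

theorem injective_frac (a : Kˣ) :
    Function.Injective
      ((IsScalarTower.toAlgHom K (PowerSeries K) (FractionRing (PowerSeries K))).comp (rescaleHom a)) :=
  (IsFractionRing.injective (PowerSeries K) (FractionRing (PowerSeries K))).comp (rescaleHom_injective a)

/-- The substitution on Laurent series. -/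
noncomputable def rescaleFrac (a : Kˣ) : FractionRing (PowerSeries K) →ₐ[K] FractionRing (PowerSeries K) :=
  IsFractionRing.liftAlgHom (injective_frac a)

theorem rescaleFrac_comp (a : Kˣ) :
    (rescaleFrac a).comp (IsScalarTower.toAlgHom K (PowerSeries K) (FractionRing (PowerSeries K))) =
      (IsScalarTower.toAlgHom K (PowerSeries K) (FractionRing (PowerSeries K))).comp (rescaleHom a) :=
  AlgHom.ext fun x => by
    simp only [rescaleFrac, AlgHom.comp_apply, IsScalarTower.coe_toAlgHom',
      IsFractionRing.liftAlgHom_apply, IsFractionRing.lift_algebraMap]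
    rfl

variable (K) in
/-- The value at `X = 0`. -/
noncomputable def constHom : PowerSeries K →ₐ[K] K :=
  { __ := PowerSeries.constantCoeff (R := K)
    commutes' := fun r => by simp [PowerSeries.algebraMap_eq] }

theorem constHom_comp (a : Kˣ) : (constHom K).comp (rescaleHom a) = constHom K :=
  AlgHom.ext fun g => by
    show PowerSeries.constantCoeff (PowerSeries.rescale (a : K) g) = PowerSeries.constantCoeff g
    rw [← PowerSeries.coeff_zero_eq_constantCoeff_apply, ← PowerSeries.coeff_zero_eq_constantCoeff_apply,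
      PowerSeries.coeff_rescale, pow_zero, _root_.one_mul]

/-- The image of a one-parameter point is trivial. -/
theorem axPt_comp_eq_one {A : Over S} [GrpObj A] [IsProper A.hom] (φ : M →+ ℤ)
    (f : Red.DS S M ⟶ A) [IsMonHom f] (p : Spec (CommRingCat.of K) ⟶ S) (a : Kˣ) :
    axPt φ (V := test S K p K) (toΓ a) ≫ f = 1 := by
  let F := FractionRing (PowerSeries K)
  let σ := rescaleHom a
  let j₀ : (PowerSeries K) →ₐ[K] F := IsScalarTower.toAlgHom K (PowerSeries K) F
  let σF : F →ₐ[K] F := rescaleFrac a
  have hσF : σF.comp j₀ = j₀.comp σ := rescaleFrac_comp a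
  let c := constHom K
  have hc : c.comp σ = c := constHom_comp a
  let i₀ : K →ₐ[K] (PowerSeries K) := Algebra.ofId K (PowerSeries K)
  have hci : c.comp i₀ = AlgHom.id K K := by ext
  have hX : algebraMap (PowerSeries K) F PowerSeries.X ≠ 0 :=
    (map_ne_zero_iff _ (IsFractionRing.injective (PowerSeries K) F)).2 PowerSeries.X_ne_zero
  let P : test S K p K ⟶ A := axPt φ (V := test S K p K) (toΓ a) ≫ f
  change P = 1
  let g : test S K p F ⟶ A := axPt φ (toΓ (Units.mk0 _ hX)) ≫ f
  have hU : UniversallyClosed A.hom := inferInstance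
  rw [UniversallyClosed.eq_valuativeCriterion] at hU
  obtain ⟨⟨l⟩⟩ := hU.1
    { R := PowerSeries K
      K := F
      i₁ := g.left
      i₂ := (test S K p (PowerSeries K)).hom
      commSq := ⟨by
        rw [Over.w g]
        change Spec.map (CommRingCat.ofHom (algebraMap K F)) ≫ p =
          Spec.map (CommRingCat.ofHom (algebraMap (PowerSeries K) F)) ≫
            Spec.map (CommRingCat.ofHom (algebraMap K (PowerSeries K))) ≫ p
        rw [← Spec.map_comp_assoc, ← CommRingCat.ofHom_comp,
          ← IsScalarTower.algebraMap_eq]⟩ }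
  let gh : test S K p (PowerSeries K) ⟶ A := Over.homMk l.l l.fac_right
  have hgh : testMap p j₀ ≫ gh = g := Over.OverMorphism.ext l.fac_left
  have key : testMap p σ ≫ gh = (testMap p i₀ ≫ P) * gh := by
    apply Over.OverMorphism.ext
    haveI : IsDominant (testMap p j₀).left :=
      ⟨(PrimeSpectrum.denseRange_comap_iff_ker_le_nilRadical j₀.toRingHom).2 <| by
        show RingHom.ker (algebraMap (PowerSeries K) F) ≤ _
        rw [(RingHom.injective_iff_ker_eq_bot _).1 (IsFractionRing.injective (PowerSeries K) F)]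
        exact bot_le⟩
    haveI : IsReduced (test S K p (PowerSeries K)).left := inferInstanceAs (IsReduced (Spec (CommRingCat.of (PowerSeries K))))
    refine ext_of_isDominant_of_isSeparated A.hom
      ((Over.w (testMap p σ ≫ gh)).trans (Over.w ((testMap p i₀ ≫ P) * gh)).symm) (testMap p j₀).left ?_
    rw [← Over.comp_left, ← Over.comp_left]
    suffices e2 : testMap p j₀ ≫ testMap p σ ≫ gh = testMap p j₀ ≫ ((testMap p i₀ ≫ P) * gh) by rw [e2]
    rw [← Category.assoc, testMap_comp, ← hσF, ← testMap_comp, Category.assoc, hgh,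
      MonObj.comp_mul, hgh, ← Category.assoc (testMap p j₀) (testMap p i₀), testMap_comp]
    simp only [g, P]
    rw [← Category.assoc, comp_axPt, ← Category.assoc, comp_axPt]
    refine Eq.trans ?_ (MonObj.mul_comp _ _ f)
    rw [← axPt_mul]
    congr 2
    rw [show (testMap p σF).left = Spec.map (CommRingCat.ofHom σF.toRingHom) from rfl,
      show (testMap p (j₀.comp i₀)).left = Spec.map (CommRingCat.ofHom (j₀.comp i₀).toRingHom) from rfl,
      map_toΓ, map_toΓ]
    change toΓ _ = toΓ _ * toΓ _
    simp only [toΓ, ← map_mul]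
    congr 1
    apply Units.ext
    change σF (algebraMap (PowerSeries K) F PowerSeries.X) = algebraMap (PowerSeries K) F (algebraMap K (PowerSeries K) (a : K)) * algebraMap (PowerSeries K) F PowerSeries.X
    rw [← map_mul]
    refine (AlgHom.congr_fun hσF PowerSeries.X).trans (congrArg (algebraMap (PowerSeries K) F) ?_)
    exact rescaleHom_X a
  have e : testMap p c ≫ gh = P * (testMap p c ≫ gh) := by
    calc testMap p c ≫ gh = testMap p c ≫ testMap p σ ≫ gh := by
          rw [← Category.assoc, testMap_comp, hc]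
      _ = P * (testMap p c ≫ gh) := by
          rw [key, MonObj.comp_mul, ← Category.assoc, testMap_comp, hci]
          congr 1
          rw [show testMap p (AlgHom.id K K) = 𝟙 _ from
            Over.OverMorphism.ext (Spec.map_id _), Category.id_comp]
  exact mul_eq_right.1 e.symm

end

/-- All points with values in a field are killed. -/
theorem point_comp_eq_one {r : ℕ} {A : Over S} [GrpObj A] [IsProper A.hom]
    (f : Red.DS S (Fin r → ℤ) ⟶ A) [IsMonHom f] {K : Type u} [Field K]
    (p : Spec (CommRingCat.of K) ⟶ S) (x : test S K p K ⟶ Red.DS S (Fin r → ℤ)) : x ≫ f = 1 := by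
  classical
  let u : Fin r → Γ((test S K p K).left, ⊤)ˣ := fun i => (isUnit_dsFn x (Pi.single i 1)).unit
  let χ (s : Finset (Fin r)) : test S K p K ⟶ Red.DS S (Fin r → ℤ) :=
    dsPt ((Units.coeHom _).comp
      (∏ i ∈ s, (zpowersHom _ (u i)).comp (Pi.evalAddMonoidHom (fun _ => ℤ) i).toMultiplicative))
  have hχ : ∀ s m, dsFn (χ s) m = ∏ i ∈ s, ((u i ^ m i : Γ((test S K p K).left, ⊤)ˣ) : Γ((test S K p K).left, ⊤)) := by
    intro s m
    simp [χ]
  have hker : ∀ s, χ s ≫ f = 1 := by
    intro s
    induction s using Finset.induction_on with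
    | empty =>
      rw [show χ ∅ = 1 from dsFn_ext fun m => by rw [hχ, dsFn_one, Finset.prod_empty],
        MonObj.one_comp]
    | insert i s hi ih =>
      rw [show χ (insert i s) = axPt (Pi.evalAddMonoidHom (fun _ => ℤ) i) (u i) * χ s from
        dsFn_ext fun m => by rw [dsFn_mul, hχ, hχ, Finset.prod_insert hi, dsFn_axPt]; rfl,
        MonObj.mul_comp, ih, _root_.mul_one]
      let e := Scheme.ΓSpecIso (CommRingCat.of K)
      obtain ⟨b, hb⟩ : ∃ b : Kˣ, toΓ b = u i :=
        ⟨Units.map (e.hom.hom : Γ(Spec (CommRingCat.of K), ⊤) →* K) (u i),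
          Units.ext (e.hom_inv_id_apply (u i : Γ((test S K p K).left, ⊤)))⟩
      rw [← hb]
      exact axPt_comp_eq_one _ f p b
  have hx : x = χ Finset.univ := dsFn_ext fun m => by
    rw [hχ]
    let F : Multiplicative (Fin r → ℤ) →* Γ((test S K p K).left, ⊤)ˣ := MonoidHom.toHomUnits
      { toFun := fun m => dsFn x m.toAdd
        map_one' := dsFn_zero x
        map_mul' := fun m n => dsFn_add x _ _ }
    have hm : m = ∑ i, Pi.single i (m i) := (Finset.univ_sum_single m).symm
    have : dsFn x m = ((F (Multiplicative.ofAdd m) : Γ((test S K p K).left, ⊤)ˣ) : Γ((test S K p K).left, ⊤)) := rfl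
    rw [this, hm, ofAdd_sum, map_prod, Units.coe_prod]
    refine Finset.prod_congr rfl fun i _ => congrArg Units.val ?_
    rw [show Pi.single i (m i) = m i • (Pi.single i (1 : ℤ) : Fin r → ℤ) by
      rw [← Pi.single_smul', smul_eq_mul, _root_.mul_one], ofAdd_zsmul, map_zpow,
      show F (Multiplicative.ofAdd (Pi.single i 1)) = u i from Units.ext rfl, Finset.univ_sum_single]
  rw [hx]
  exact hker _

end Groth.Agent.H2.TorusHom
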